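import Cfsg.Agent.EqLemmas
import Cfsg.Agent.Lib.Perm.SharpDegrees
import Cfsg.Agent.S0713

/-!
# Highly transitive groups with small elements (owner: helper76)

* `le_of_cycle`, `le_of_double_transposition`, `le_of_stabilizer_small`, `nine`
-/

open Equiv MulAction
open scoped Nat

namespace Cfsg.Agent.MultiTrans

variable {α : Type*} [Fintype α] [DecidableEq α] {G : Subgroup (Perm α)}

omit [DecidableEq α] in
theorem preprimitive {m : ℕ} (hm : 2 ≤ m) (hmn : m ≤ Fintype.card α) (hG : IsMultiplyPretransitive G α m) :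
    IsPreprimitive G α :=
  isPreprimitive_of_is_two_pretransitive
    (isMultiplyPretransitive_of_le (n := m) hm (by rwa [Nat.card_eq_fintype_card]))

theorem le_of_three_cycle {m : ℕ} (hm : 2 ≤ m) (hmn : m ≤ Fintype.card α) (hG : IsMultiplyPretransitive G α m)
    {g : Perm α} (hg : g ∈ G) (h : g.cycleType = {3}) : alternatingGroup α ≤ G :=
  Perm.alternatingGroup_le_of_isPreprimitive_of_isThreeCycle_mem (preprimitive hm hmn hG) h hg

/-- A cycle of prime length with three fixed points. -/
theorem le_of_cycle {m : ℕ} (hm : 2 ≤ m) (hmn : m ≤ Fintype.card α) (hG : IsMultiplyPretransitive G α m)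
    {g : Perm α} (hg : g ∈ G) {q : ℕ} (hq : q.Prime) (h : g.cycleType = {q}) (hqn : q + 3 ≤ Fintype.card α) :
    alternatingGroup α ≤ G := by
  refine S0713.result G (preprimitive hm hmn hG) hq (by have := hq.two_le; omega) hqn ?_ ?_ hg
  · rw [← Perm.card_cycleType_eq_one, h, Multiset.card_singleton]
  · rw [← Perm.sum_cycleType, h, Multiset.sum_singleton]

/-- A double transposition in a four-fold transitive group. -/
theorem le_of_double_transposition {m : ℕ} (hm : 4 ≤ m) (hmn : m ≤ Fintype.card α) (h5 : 5 ≤ Fintype.card α)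
    (hG : IsMultiplyPretransitive G α m) {g : Perm α} (hg : g ∈ G) (h : g.cycleType = {2, 2}) :
    alternatingGroup α ≤ G := by
  have hsup : g.support.card = 4 := by rw [← Perm.sum_cycleType, h]; rfl
  have hg2 : g * g = 1 := by
    have : orderOf g ∣ 2 := by rw [← Perm.lcm_cycleType, h]; decide
    rw [← sq]; exact orderOf_dvd_iff_pow_eq_one.mp this
  have hgg : ∀ z, g (g z) = z := fun z => by rw [← Perm.mul_apply, hg2, Perm.one_apply]
  obtain ⟨a, ha⟩ := Finset.card_pos.mp (by omega : 0 < g.support.card)
  have hab : a ≠ g a := Ne.symm (Perm.mem_support.mp ha)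
  obtain ⟨c, hc, hca⟩ := Finset.exists_mem_notMem_of_card_lt_card (s := {a, g a}) (t := g.support)
    (by rw [Finset.card_pair hab]; omega)
  simp only [Finset.mem_insert, Finset.mem_singleton, not_or] at hca
  have hcd : c ≠ g c := Ne.symm (Perm.mem_support.mp hc)
  have hcb : g c ≠ g a := fun e => hca.1 (g.injective e)
  have hcb2 : g c ≠ a := fun e => hca.2 (by rw [← e, hgg])
  obtain ⟨e, he⟩ : ∃ e, e ∉ g.support := by
    by_contra hh
    push Not at hh
    have := Finset.card_le_card (fun z (_ : z ∈ (Finset.univ : Finset α)) => hh z)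
    rw [Finset.card_univ] at this
    omega
  have hset : ∀ z ∈ g.support, z = a ∨ z = g a ∨ z = c ∨ z = g c := by
    have hsub : ({a, g a, c, g c} : Finset α) ⊆ g.support := by
      intro z hz
      simp only [Finset.mem_insert, Finset.mem_singleton] at hz
      rcases hz with rfl | rfl | rfl | rfl
      exacts [ha, Perm.apply_mem_support.mpr ha, hc, Perm.apply_mem_support.mpr hc]
    have heq := Finset.eq_of_subset_of_card_le hsub (by
      rw [hsup, Finset.card_insert_of_notMem (by simp [hab, Ne.symm hca.1, Ne.symm hcb2]),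
        Finset.card_insert_of_notMem (by simp [Ne.symm hca.2, Ne.symm hcb]), Finset.card_pair hcd])
    intro z hz
    rw [← heq] at hz
    simpa using hz
  have hgeq : g = swap a (g a) * swap c (g c) := by
    refine Equiv.ext fun z => ?_
    rw [Perm.mul_apply]
    by_cases hz : z ∈ g.support
    · rcases hset z hz with rfl | rfl | rfl | rfl
      · rw [swap_apply_of_ne_of_ne (Ne.symm hca.1) (Ne.symm hcb2), swap_apply_left]
      · rw [swap_apply_of_ne_of_ne (Ne.symm hca.2) (Ne.symm hcb), swap_apply_right, hgg]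
      · rw [swap_apply_left, swap_apply_of_ne_of_ne hcb2 hcb]
      · rw [swap_apply_right, swap_apply_of_ne_of_ne hca.1 hca.2, hgg]
    · have hzz := Perm.notMem_support.mp hz
      have h1 : z ≠ c := fun e => hz (e ▸ hc)
      have h2 : z ≠ g c := fun e => hz (e ▸ Perm.apply_mem_support.mpr hc)
      have h3 : z ≠ a := fun e => hz (e ▸ ha)
      have h4 : z ≠ g a := fun e => hz (e ▸ Perm.apply_mem_support.mpr ha)
      rw [swap_apply_of_ne_of_ne h1 h2, swap_apply_of_ne_of_ne h3 h4, hzz]
  have hne : ∀ z ∈ g.support, z ≠ e := fun z hz e' => he (e' ▸ hz)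
  obtain ⟨x, hx0, hx1, hx2, hx3⟩ := Cfsg.Agent.Perm.exists_embedding_four (a := a) (b := g a) (c := c) (d := g c)
    (by simp [hab, Ne.symm hca.1, Ne.symm hcb2, Ne.symm hca.2, Ne.symm hcb, hcd])
  obtain ⟨y, hy0, hy1, hy2, hy3⟩ := Cfsg.Agent.Perm.exists_embedding_four (a := a) (b := g a) (c := c) (d := e)
    (by simp [hab, Ne.symm hca.1, hne a ha, Ne.symm hca.2, hne _ (Perm.apply_mem_support.mpr ha), hne c hc])
  have h4 : IsMultiplyPretransitive G α 4 :=
    isMultiplyPretransitive_of_le (n := m) hm (by rwa [Nat.card_eq_fintype_card])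
  obtain ⟨k, hk⟩ := h4.exists_smul_eq x y
  have hk' : ∀ i, (k : Perm α) (x i) = y i := fun i => congrArg (fun f : Fin 4 ↪ α => f i) hk
  have hka : (k : Perm α) a = a := by simpa [hx0, hy0] using hk' 0
  have hkb : (k : Perm α) (g a) = g a := by simpa [hx1, hy1] using hk' 1
  have hkc : (k : Perm α) c = c := by simpa [hx2, hy2] using hk' 2
  have hkd : (k : Perm α) (g c) = e := by simpa [hx3, hy3] using hk' 3
  have hconj : ∀ u v : α, (k : Perm α) * swap u v * (k : Perm α)⁻¹ = swap ((k : Perm α) u) ((k : Perm α) v) := fun u v => by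
    rw [mul_swap_eq_swap_mul, mul_inv_cancel_right]
  have hk2 : (k : Perm α) * g * (k : Perm α)⁻¹ = swap a (g a) * swap c e := by
    calc (k : Perm α) * g * (k : Perm α)⁻¹
        = (k : Perm α) * (swap a (g a) * swap c (g c)) * (k : Perm α)⁻¹ := by rw [← hgeq]
      _ = ((k : Perm α) * swap a (g a) * (k : Perm α)⁻¹) * ((k : Perm α) * swap c (g c) * (k : Perm α)⁻¹) := by group
      _ = _ := by rw [hconj, hconj, hka, hkb, hkc, hkd]
  have hmem : g * ((k : Perm α) * g * (k : Perm α)⁻¹) ∈ G := G.mul_mem hg (G.mul_mem (G.mul_mem k.2 hg) (G.inv_mem k.2))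
  have hsc : swap c (g c) * swap a (g a) = swap a (g a) * swap c (g c) := by
    have hd : Perm.Disjoint (swap c (g c)) (swap a (g a)) := by
      intro z
      by_cases hz : z = a ∨ z = g a
      · left
        rcases hz with rfl | rfl
        · exact swap_apply_of_ne_of_ne (Ne.symm hca.1) (Ne.symm hcb2)
        · exact swap_apply_of_ne_of_ne (Ne.symm hca.2) (Ne.symm hcb)
      · right
        rw [not_or] at hz
        exact swap_apply_of_ne_of_ne hz.1 hz.2
    exact hd.commute.eq
  have hprod : g * ((k : Perm α) * g * (k : Perm α)⁻¹) = swap c (g c) * swap c e := by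
    calc g * ((k : Perm α) * g * (k : Perm α)⁻¹)
        = swap c (g c) * swap a (g a) * (swap a (g a) * swap c e) := by rw [hk2, hsc, ← hgeq]
      _ = _ := by rw [mul_assoc, ← mul_assoc (swap a (g a)), swap_mul_self, one_mul]
  have h3 : (swap c (g c) * swap c e).IsThreeCycle :=
    Perm.isThreeCycle_swap_mul_swap_same hcd (hne c hc) (hne _ (Perm.apply_mem_support.mpr hc))
  exact le_of_three_cycle (by omega) hmn hG (hprod ▸ hmem) h3.cycleType

/-- Tail case: all but at most two points are moved around arbitrarily. -/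
theorem le_of_tail {m : ℕ} (hm : Fintype.card α ≤ m + 2) (hmn : m ≤ Fintype.card α)
    (hG : IsMultiplyPretransitive G α m) : alternatingGroup α ≤ G := by
  refine Perm.alternatingGroup_le_of_index_le_two ?_
  have hne : Nonempty (Fin m ↪ α) := Function.Embedding.nonempty_of_card_le (by simpa using hmn)
  obtain ⟨x⟩ := hne
  have hdvd : (Fintype.card α).descFactorial m ∣ Nat.card G := by
    have h1 : (stabilizer G x).index = Nat.card (Fin m ↪ α) := by
      rw [index_stabilizer, ← Set.ncard_univ]
      congr 1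
      exact Set.eq_univ_of_forall fun y => hG.exists_smul_eq x y
    rw [Nat.card_eq_fintype_card, Fintype.card_embedding_eq, Fintype.card_fin] at h1
    exact h1 ▸ Subgroup.index_dvd_card _
  have hfac : (Fintype.card α - m)! * (Fintype.card α).descFactorial m = (Fintype.card α)! :=
    Nat.factorial_mul_descFactorial hmn
  have h2 : (Fintype.card α - m)! ≤ 2 := (Nat.factorial_le (by omega : Fintype.card α - m ≤ 2)).trans (le_refl 2)
  have h3 : G.index * Nat.card G ≤ 2 * Nat.card G := by
    rw [G.index_mul_card, Nat.card_perm, Nat.card_eq_fintype_card, ← hfac]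
    exact Nat.mul_le_mul h2 (Nat.le_of_dvd Nat.card_pos hdvd)
  exact Nat.le_of_mul_le_mul_right h3 Nat.card_pos

/-- Degree nine. -/
theorem nine (h9 : Fintype.card α = 9) (hG : IsMultiplyPretransitive G α 4) : alternatingGroup α ≤ G := by
  by_cases hsharp : ∀ x : Fin 4 ↪ α, stabilizer G x = ⊥
  · have := Cfsg.Agent.Perm.sharply_four_degree hG hsharp (by rw [Nat.card_eq_fintype_card]; omega)
    rw [Nat.card_eq_fintype_card] at this
    omega
  push Not at hsharp
  obtain ⟨x, hx⟩ := hsharp
  obtain ⟨q, hq, hqd⟩ := Nat.exists_prime_and_dvd (mt Subgroup.card_eq_one.mp hx)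
  haveI := Fact.mk hq
  obtain ⟨g, hg⟩ := exists_prime_orderOf_dvd_card' q hqd
  set g' : Perm α := ((g : G) : Perm α) with hg'
  have ho : orderOf g' = q := by rw [hg', Subgroup.orderOf_coe, Subgroup.orderOf_coe, hg]
  obtain ⟨j, hj⟩ := Perm.cycleType_prime_order (σ := g') (by rw [ho]; exact hq)
  rw [ho] at hj
  have hfix : ∀ i, g' (x i) = x i := fun i => congrArg (fun f : Fin 4 ↪ α => f i) (mem_stabilizer_iff.mp g.2)
  have hle : g'.support.card ≤ 5 := by
    have hd : Disjoint g'.support (Finset.univ.map x) := by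
      rw [Finset.disjoint_right]
      intro z hz
      obtain ⟨i, -, rfl⟩ := Finset.mem_map.mp hz
      exact Perm.notMem_support.mpr (hfix i)
    have := Finset.card_le_univ (g'.support ∪ Finset.univ.map x)
    rw [Finset.card_union_of_disjoint hd, Finset.card_map, Finset.card_univ, Fintype.card_fin, h9] at this
    omega
  rw [← Perm.sum_cycleType, hj, Multiset.sum_replicate, smul_eq_mul] at hle
  have hgG : g' ∈ G := (g : G).2
  have := hq.two_le
  rcases j with _ | _ | j
  · have hq5 : q ≤ 5 := by omega
    exact le_of_cycle (by norm_num : 2 ≤ 4) (by omega) hG hgG hq hj (by omega)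
  · have : q = 2 := by omega
    subst this
    exact le_of_double_transposition le_rfl (by omega) (by omega) hG hgG hj
  · exfalso
    have : 3 * 2 ≤ (j + 1 + 1 + 1) * q := Nat.mul_le_mul (by omega) (by omega)
    omega

end Cfsg.Agent.MultiTrans
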