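import Cfsg.Agent.EqLemmas

/-!
# A `p`-group all of whose non-trivial orbits have length `p` (owner: helper76)

Setting: `P ≤ Perm α` fixes `Δ` pointwise, every orbit outside `Δ` has length `p`.
* `commute_of_orbits`, `conj_comm`, `cycle_or_power`, `pow_fixes`
-/

open Equiv MulAction
open scoped commutatorElement

set_option linter.unusedSectionVars false

namespace Cfsg.Agent.MultiTrans

variable {α : Type*} [Fintype α] [DecidableEq α]

/-- The standing hypotheses. -/
structure Orbs (P : Subgroup (Perm α)) (Δ : Finset α) (p : ℕ) : Prop where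
  prime : p.Prime
  pgroup : IsPGroup p P
  fixed : ∀ u ∈ P, ∀ x ∈ Δ, u x = x
  orbit_card : ∀ x ∉ Δ, Nat.card (orbit P x) = p

variable {P : Subgroup (Perm α)} {Δ : Finset α} {p : ℕ}

/-- The action on one orbit. -/
def onOrbit (P : Subgroup (Perm α)) (x : α) : P →* Perm (orbit P x) := MulAction.toPermHom P (orbit P x)

omit [Fintype α] [DecidableEq α] in
theorem onOrbit_apply (x : α) (u : P) (y : orbit P x) : ((onOrbit P x u y : orbit P x) : α) = (u : Perm α) y := rfl

omit [Fintype α] [DecidableEq α] in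
theorem onOrbit_eq_iff {x : α} {u v : P} :
    onOrbit P x u = onOrbit P x v ↔ ∀ y ∈ orbit P x, (u : Perm α) y = (v : Perm α) y := by
  constructor
  · exact fun h y hy => congrArg Subtype.val (Equiv.congr_fun h ⟨y, hy⟩)
  · exact fun h => Equiv.ext fun y => Subtype.ext (h y y.2)

namespace Orbs

variable (h : Orbs P Δ p)

include h

theorem not_mem_of_mem_orbit {x y : α} (hx : x ∉ Δ) (hy : y ∈ orbit P x) : y ∉ Δ := by
  intro hyD
  obtain ⟨u, rfl⟩ := hy
  exact hx (by
    have := h.fixed _ (inv_mem u.2) _ hyD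
    simp only [Subgroup.smul_def, Perm.smul_def] at this hyD
    simp only [Perm.inv_def, Equiv.symm_apply_apply] at this
    exact this ▸ hyD)

theorem ext_orbits {u v : P} (he : ∀ x ∉ Δ, onOrbit P x u = onOrbit P x v) : u = v := by
  refine Subtype.ext (Equiv.ext fun x => ?_)
  by_cases hx : x ∈ Δ
  · rw [h.fixed _ u.2 x hx, h.fixed _ v.2 x hx]
  · exact onOrbit_eq_iff.mp (he x hx) x (mem_orbit_self x)

omit [Fintype α] [DecidableEq α] in
theorem exists_moving {x : α} (hx : x ∉ Δ) : ∃ u : P, (u : Perm α) x ≠ x := by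
  by_contra hh
  push Not at hh
  have hs : Subsingleton (orbit P x) := ⟨by
    rintro ⟨_, ⟨u, rfl⟩⟩ ⟨_, ⟨v, rfl⟩⟩
    exact Subtype.ext ((hh u).trans (hh v).symm)⟩
  have := h.orbit_card x hx
  rw [Nat.card_eq_one_iff_unique.mpr ⟨hs, ⟨⟨x, mem_orbit_self x⟩⟩⟩] at this
  exact h.prime.ne_one this.symm

/-- The group induced on an orbit has order `p`. -/
theorem card_range {x : α} (hx : x ∉ Δ) : Nat.card (onOrbit P x).range = p := by
  haveI := Fact.mk h.prime
  have hp : IsPGroup p (onOrbit P x).range := h.pgroup.of_surjective _ (onOrbit P x).rangeRestrict_surjective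
  obtain ⟨j, hj⟩ := hp.exists_card_eq
  have hd : p ^ j ∣ Nat.factorial p := by
    have := (onOrbit P x).range.card_subgroup_dvd_card
    rwa [hj, Nat.card_perm, h.orbit_card x hx] at this
  have hj2 : j < 2 := by
    by_contra hlt
    have h2 : p ^ 2 ∣ Nat.factorial p := (pow_dvd_pow p (by omega)).trans hd
    have hlog : Nat.log p p < 2 := Nat.log_lt_of_lt_pow h.prime.ne_zero (by
      rw [sq]; exact lt_mul_of_one_lt_right h.prime.pos h.prime.one_lt)
    rw [Nat.Prime.pow_dvd_factorial_iff h.prime hlog] at h2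
    simp [Nat.div_self h.prime.pos] at h2
  obtain ⟨u, hu⟩ := h.exists_moving hx
  have hj0 : j ≠ 0 := by
    rintro rfl
    rw [pow_zero] at hj
    have h1 : onOrbit P x u = 1 := Subgroup.mem_bot.mp (Subgroup.card_eq_one.mp hj ▸ ⟨u, rfl⟩)
    exact hu (congrArg Subtype.val (Equiv.congr_fun h1 ⟨x, mem_orbit_self x⟩))
  rw [hj, show j = 1 by omega, pow_one]

theorem exists_pow {x : α} (hx : x ∉ Δ) {u : P} (hu : onOrbit P x u ≠ 1) (w : P) :
    ∃ j : ℕ, onOrbit P x w = onOrbit P x u ^ j := by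
  haveI := Fact.mk h.prime
  have := zpowers_eq_top_of_prime_card (h.card_range hx) (g := (⟨onOrbit P x u, u, rfl⟩ : (onOrbit P x).range))
    (fun e => hu (congrArg Subtype.val e))
  have hw : (⟨onOrbit P x w, w, rfl⟩ : (onOrbit P x).range) ∈ Subgroup.zpowers (⟨onOrbit P x u, u, rfl⟩ : (onOrbit P x).range) :=
    this ▸ Subgroup.mem_top _
  obtain ⟨j, hj⟩ := mem_powers_iff_mem_zpowers.mpr hw
  exact ⟨j, (congrArg Subtype.val hj).symm⟩

theorem onOrbit_pow_p {x : α} (hx : x ∉ Δ) (w : P) : onOrbit P x w ^ p = 1 := by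
  have h1 := pow_card_eq_one' (x := (⟨onOrbit P x w, w, rfl⟩ : (onOrbit P x).range))
  rw [h.card_range hx] at h1
  exact congrArg Subtype.val h1

theorem pow_p (w : P) : w ^ p = 1 :=
  h.ext_orbits fun x hx => by rw [map_pow, h.onOrbit_pow_p hx, map_one]

theorem commute_of_orbits (u v : P) : u * v = v * u := by
  haveI := Fact.mk h.prime
  refine h.ext_orbits fun x hx => ?_
  haveI := isCyclic_of_prime_card (h.card_range hx)
  have := (IsCyclic.isMulCommutative (α := (onOrbit P x).range)).is_comm.comm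
    ⟨onOrbit P x u, u, rfl⟩ ⟨onOrbit P x v, v, rfl⟩
  rw [map_mul, map_mul]
  exact congrArg Subtype.val this

omit h in
/-- Conjugation by an element of the normaliser. -/
abbrev cj (g : Subgroup.normalizer (P : Set (Perm α))) : MulAut P := Subgroup.normalizerMonoidHom P g

omit h [Fintype α] [DecidableEq α] in
theorem cj_apply (g : Subgroup.normalizer (P : Set (Perm α))) (w : P) :
    ((cj g w : P) : Perm α) = (g : Perm α) * w * (g : Perm α)⁻¹ := rfl

omit h in
/-- `g` fixes every non-trivial orbit. -/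
def Keeps (Δ : Finset α) (g : Subgroup.normalizer (P : Set (Perm α))) : Prop :=
  ∀ x ∉ Δ, (g : Perm α) x ∈ orbit P x

theorem keeps_orbit {g : Subgroup.normalizer (P : Set (Perm α))} (hg : Keeps Δ g) {x y : α} (hx : x ∉ Δ)
    (hy : y ∈ orbit P x) : (g : Perm α)⁻¹ y ∈ orbit P x := by
  have hyD := h.not_mem_of_mem_orbit hx hy
  -- `g` permutes the finite orbit
  let f : orbit P x → orbit P x := fun z => ⟨(g : Perm α) z, by
    have hz := hg z.1 (h.not_mem_of_mem_orbit hx z.2)
    rwa [orbit_eq_iff.mpr z.2] at hz⟩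
  have hf : Function.Injective f := fun a b e => Subtype.ext ((g : Perm α).injective (congrArg Subtype.val e))
  obtain ⟨z, hz⟩ := (Finite.injective_iff_surjective.mp hf) ⟨y, hy⟩
  have : (g : Perm α) z = y := congrArg Subtype.val hz
  rw [← this, Perm.inv_def, Equiv.symm_apply_apply]
  exact z.2

/-- Conjugation respects agreement on an orbit. -/
theorem cj_congr {g : Subgroup.normalizer (P : Set (Perm α))} (hg : Keeps Δ g) {x : α} (hx : x ∉ Δ) {v w : P}
    (he : onOrbit P x v = onOrbit P x w) : onOrbit P x (cj g v) = onOrbit P x (cj g w) := by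
  rw [onOrbit_eq_iff] at he ⊢
  intro y hy
  simp only [cj_apply, Perm.mul_apply]
  rw [he _ (h.keeps_orbit hg hx hy)]

/-- One power on an orbit gives all. -/
theorem cj_pow_of_one {g : Subgroup.normalizer (P : Set (Perm α))} (hg : Keeps Δ g) {x : α} (hx : x ∉ Δ) {u : P}
    (hu : onOrbit P x u ≠ 1) {a : ℕ} (ha : onOrbit P x (cj g u) = onOrbit P x u ^ a) (w : P) :
    onOrbit P x (cj g w) = onOrbit P x w ^ a := by
  obtain ⟨j, hj⟩ := h.exists_pow hx hu w
  rw [h.cj_congr hg hx (w := u ^ j) (by rw [map_pow, hj]), map_pow, map_pow, ha, hj, ← pow_mul, ← pow_mul, mul_comm]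

theorem cj_pow {g : Subgroup.normalizer (P : Set (Perm α))} (hg : Keeps Δ g) {x : α} (hx : x ∉ Δ) :
    ∃ a : ℕ, ∀ w : P, onOrbit P x (cj g w) = onOrbit P x w ^ a := by
  obtain ⟨u, hu⟩ := h.exists_moving hx
  have hu' : onOrbit P x u ≠ 1 := fun e => hu (congrArg Subtype.val (Equiv.congr_fun e ⟨x, mem_orbit_self x⟩))
  obtain ⟨a, ha⟩ := h.exists_pow hx hu' (cj g u)
  exact ⟨a, h.cj_pow_of_one hg hx hu' ha⟩

/-- Elements fixing all orbits induce commuting automorphisms. -/
theorem conj_comm {g k : Subgroup.normalizer (P : Set (Perm α))} (hg : Keeps Δ g) (hk : Keeps Δ k) :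
    cj g * cj k = cj k * cj g := by
  refine MulEquiv.ext fun w => h.ext_orbits fun x hx => ?_
  obtain ⟨a, ha⟩ := h.cj_pow hg hx
  obtain ⟨b, hb⟩ := h.cj_pow hk hx
  rw [MulAut.mul_apply, MulAut.mul_apply, ha, hb, hb, ha, ← pow_mul, ← pow_mul, mul_comm]

/-- Either a non-trivial element moves at most `p` points, or orbit-fixing elements act as powers. -/
theorem cycle_or_power (hcard : Δᶜ.card ≤ 3 * p) :
    (∃ u ∈ P, u.cycleType = ({p} : Multiset ℕ)) ∨
      ∀ g : Subgroup.normalizer (P : Set (Perm α)), Keeps Δ g → ∃ a : ℕ, ∀ w : P, cj g w = w ^ a := by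
  classical
  haveI := Fact.mk h.prime
  by_cases hfaith : ∃ x, x ∉ Δ ∧ Function.Injective (onOrbit P x)
  · obtain ⟨x, hx, hinj⟩ := hfaith
    refine Or.inr fun g hg => ?_
    obtain ⟨a, ha⟩ := h.cj_pow hg hx
    exact ⟨a, fun w => hinj (by rw [ha, map_pow])⟩
  push Not at hfaith
  by_cases hnone : ∀ x, x ∈ Δ
  · exact Or.inr fun g _ => ⟨1, fun w => h.ext_orbits fun x hx => absurd (hnone x) hx⟩
  push Not at hnone
  by_cases hcyc : ∃ u : P, u ≠ 1 ∧ (u : Perm α).support.card ≤ p
  · obtain ⟨u, hu1, hle⟩ := hcyc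
    refine Or.inl ⟨u, u.2, ?_⟩
    have hu' : orderOf (u : Perm α) = p := by
      rw [Subgroup.orderOf_coe]
      exact orderOf_eq_prime (h.pow_p u) hu1
    obtain ⟨j, hj⟩ := Perm.cycleType_prime_order (σ := (u : Perm α)) (hu' ▸ h.prime)
    rw [hu'] at hj
    rw [← Perm.sum_cycleType, hj, Multiset.sum_replicate, smul_eq_mul] at hle
    have : j = 0 := by
      rcases j with _ | j
      · rfl
      · have := h.prime.pos; exfalso; nlinarith
    rw [hj, this]
    rfl
  push Not at hcyc
  refine Or.inr fun g hg => ?_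
  obtain ⟨x, hx⟩ := hnone
  obtain ⟨a, ha⟩ := h.cj_pow hg hx
  refine ⟨a, fun w => h.ext_orbits fun y hy => ?_⟩
  rw [map_pow]
  by_cases hxy : y ∈ orbit P x
  · have he : ∀ v v' : P, onOrbit P x v = onOrbit P x v' → onOrbit P y v = onOrbit P y v' := fun v v' e => by
      rw [onOrbit_eq_iff] at e ⊢
      rwa [orbit_eq_iff.mpr hxy]
    rw [← map_pow]
    exact he _ _ (by rw [ha, map_pow])
  -- the two orbits
  have hOx : (orbit P x).toFinset ⊆ Δᶜ := fun z hz => Finset.mem_compl.mpr (h.not_mem_of_mem_orbit hx (Set.mem_toFinset.mp hz))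
  have hOy : (orbit P y).toFinset ⊆ Δᶜ := fun z hz => Finset.mem_compl.mpr (h.not_mem_of_mem_orbit hy (Set.mem_toFinset.mp hz))
  have hcx : ∀ z, z ∉ Δ → ((orbit P z).toFinset).card = p := fun z hz => by
    rw [← Nat.card_eq_card_toFinset, h.orbit_card z hz]
  have hdisj : ∀ {s t : α}, t ∉ orbit P s → Disjoint (orbit P s).toFinset (orbit P t).toFinset := by
    intro s t hst
    rw [Finset.disjoint_left]
    intro z h1 h2
    rw [Set.mem_toFinset] at h1 h2
    exact hst (by rw [← orbit_eq_iff.mpr h1, orbit_eq_iff.mpr h2]; exact mem_orbit_self t)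
  -- support of an element trivial on an orbit
  have hsupp : ∀ (v : P) (z : α), z ∉ Δ → onOrbit P z v = 1 → (v : Perm α).support ⊆ Δᶜ \ (orbit P z).toFinset := by
    intro v z hz hv t ht
    rw [Perm.mem_support] at ht
    refine Finset.mem_sdiff.mpr ⟨Finset.mem_compl.mpr fun htD => ht (h.fixed _ v.2 t htD), fun htz => ht ?_⟩
    exact congrArg Subtype.val (Equiv.congr_fun hv ⟨t, Set.mem_toFinset.mp htz⟩)
  -- a third orbit
  obtain ⟨z, hz, hzx, hzy⟩ : ∃ z, z ∉ Δ ∧ z ∉ orbit P x ∧ z ∉ orbit P y := by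
    by_contra hh
    push Not at hh
    obtain ⟨u, hu⟩ := not_forall.mp (mt (injective_iff_map_eq_one (onOrbit P x)).mpr (hfaith x hx))
    rw [Classical.not_imp] at hu
    have hs : (u : Perm α).support ⊆ (orbit P y).toFinset := fun t ht => by
      have ht' := Finset.mem_sdiff.mp (hsupp u x hx hu.1 ht)
      exact Set.mem_toFinset.mpr (hh t (Finset.mem_compl.mp ht'.1) fun e => ht'.2 (Set.mem_toFinset.mpr e))
    have := Finset.card_le_card hs
    rw [hcx y hy] at this
    exact absurd this (not_le.mpr (hcyc u hu.2))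
  obtain ⟨u, hu⟩ := not_forall.mp (mt (injective_iff_map_eq_one (onOrbit P z)).mpr (hfaith z hz))
  rw [Classical.not_imp] at hu
  obtain ⟨huz, hu1⟩ := hu
  have hd3 : (Δᶜ \ ((orbit P x).toFinset ∪ (orbit P z).toFinset)).card ≤ p := by
    rw [Finset.card_sdiff_of_subset (Finset.union_subset hOx fun t ht => Finset.mem_compl.mpr (h.not_mem_of_mem_orbit hz (Set.mem_toFinset.mp ht))),
      Finset.card_union_of_disjoint (hdisj hzx), hcx x hx, hcx z hz]
    omega
  -- `u` is non-trivial on the orbit of `y`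
  have huy : onOrbit P y u ≠ 1 := by
    intro e
    have hs : (u : Perm α).support ⊆ Δᶜ \ ((orbit P y).toFinset ∪ (orbit P z).toFinset) := fun t ht => by
      have h1 := Finset.mem_sdiff.mp (hsupp u y hy e ht)
      have h2 := Finset.mem_sdiff.mp (hsupp u z hz huz ht)
      exact Finset.mem_sdiff.mpr ⟨h1.1, by rw [Finset.mem_union]; exact not_or.mpr ⟨h1.2, h2.2⟩⟩
    have := Finset.card_le_card hs
    rw [Finset.card_sdiff_of_subset (Finset.union_subset hOy fun t ht => Finset.mem_compl.mpr (h.not_mem_of_mem_orbit hz (Set.mem_toFinset.mp ht))),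
      Finset.card_union_of_disjoint (hdisj hzy), hcx y hy, hcx z hz] at this
    have := hcyc u hu1
    omega
  set v := cj g u * (u ^ a)⁻¹ with hv
  have hv1 : v = 1 := by
    by_contra hne
    have hvx : onOrbit P x v = 1 := by rw [hv, map_mul, map_inv, map_pow, ha, mul_inv_cancel]
    have hvz : onOrbit P z v = 1 := by
      rw [hv, map_mul, map_inv, map_pow, huz, one_pow, inv_one, mul_one]
      have := h.cj_congr hg hz (v := u) (w := 1) (by rw [huz, map_one])
      rwa [map_one, map_one] at this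
    have hs : (v : Perm α).support ⊆ Δᶜ \ ((orbit P x).toFinset ∪ (orbit P z).toFinset) := fun t ht => by
      have h1 := Finset.mem_sdiff.mp (hsupp v x hx hvx ht)
      have h2 := Finset.mem_sdiff.mp (hsupp v z hz hvz ht)
      exact Finset.mem_sdiff.mpr ⟨h1.1, by rw [Finset.mem_union]; exact not_or.mpr ⟨h1.2, h2.2⟩⟩
    have := Finset.card_le_card hs
    have := hcyc v hne
    omega
  rw [hv, mul_inv_eq_one] at hv1
  exact h.cj_pow_of_one hg hy huy (by rw [hv1, map_pow]) w

/-- Orbit-fixing elements centralising `P` have `p`-th power fixing everything outside `Δ`. -/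
theorem pow_fixes {g : Subgroup.normalizer (P : Set (Perm α))} (hg : Keeps Δ g) (hc : cj g = 1) {x : α} (hx : x ∉ Δ) :
    ((g : Perm α) ^ p) x = x := by
  obtain ⟨u, hu⟩ := hg x hx
  have hu' : (u : Perm α) x = (g : Perm α) x := hu
  have hcomm : Commute (g : Perm α) (u : Perm α) := by
    have := congrArg (fun q : MulAut P => ((q u : P) : Perm α)) hc
    simp only [cj_apply, MulAut.one_apply] at this
    exact mul_inv_eq_iff_eq_mul.mp this
  have hpow : ∀ j : ℕ, ((g : Perm α) ^ j) x = ((u : Perm α) ^ j) x := by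
    intro j
    induction j with
    | zero => rfl
    | succ j ih =>
      calc ((g : Perm α) ^ (j + 1)) x = (g : Perm α) (((g : Perm α) ^ j) x) := by rw [pow_succ', Perm.mul_apply]
        _ = ((g : Perm α) * (u : Perm α) ^ j) x := by rw [ih, Perm.mul_apply]
        _ = ((u : Perm α) ^ j) ((g : Perm α) x) := by rw [(hcomm.pow_right j).eq, Perm.mul_apply]
        _ = ((u : Perm α) ^ (j + 1)) x := by rw [← hu', pow_succ, Perm.mul_apply]
  rw [hpow, ← SubgroupClass.coe_pow, h.pow_p]
  rfl

end Orbs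

end Cfsg.Agent.MultiTrans
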