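import Cfsg.Agent.EqLemmas

/-!
# Elements in commutators of normal subgroups of small symmetric groups (owner: helper76)

* `exists_three`, `exists_double`, `exists_cycle`: elements of given cycle type in `⁅⊤, K⁆` resp. `⁅K, K⁆`
-/

open Equiv
open scoped commutatorElement

namespace Cfsg.Agent.MultiTrans

variable {D : Type*} [Fintype D] [DecidableEq D]

set_option maxRecDepth 100000 in
set_option maxHeartbeats 0 in
private theorem fin3 : ∀ a : Perm (Fin 3), a ≠ 1 → ∃ s : Perm (Fin 3), ⁅s, a⁆ ^ 3 = 1 ∧ ⁅s, a⁆ ≠ 1 := by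
  simp only [commutatorElement_def]
  decide +kernel

set_option maxRecDepth 100000 in
set_option maxHeartbeats 0 in
private theorem fin4 : ∀ a : Perm (Fin 4), a ≠ 1 → ∃ s t : Perm (Fin 4), ⁅s, ⁅t, a⁆⁆ ^ 2 = 1 ∧ ⁅s, ⁅t, a⁆⁆ ≠ 1 ∧
    Perm.sign ⁅s, ⁅t, a⁆⁆ = 1 := by
  simp only [commutatorElement_def]
  decide +kernel

theorem exists_three (hD : Fintype.card D = 3) (K : Subgroup (Perm D)) (hK : K ≠ ⊥) :
    ∃ t ∈ ⁅(⊤ : Subgroup (Perm D)), K⁆, t.cycleType = ({3} : Multiset ℕ) := by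
  obtain ⟨a, ha, ha1⟩ := K.bot_or_exists_ne_one.resolve_left hK
  let Φ : Perm D ≃* Perm (Fin 3) := (Fintype.equivFinOfCardEq hD).permCongrHom
  obtain ⟨s, h3, h1⟩ := fin3 (Φ a) (fun e => ha1 (Φ.injective (e.trans (map_one Φ).symm)))
  have e : Φ ⁅Φ.symm s, a⁆ = ⁅s, Φ a⁆ := by rw [map_commutatorElement, MulEquiv.apply_symm_apply]
  refine ⟨⁅Φ.symm s, a⁆, Subgroup.commutator_mem_commutator (Subgroup.mem_top _) ha, ?_⟩
  have ho : orderOf ⁅Φ.symm s, a⁆ = 3 := by
    rw [← MulEquiv.orderOf_eq Φ, e]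
    haveI : Fact (Nat.Prime 3) := ⟨Nat.prime_three⟩
    exact orderOf_eq_prime h3 h1
  obtain ⟨j, hj⟩ := Perm.cycleType_prime_order (σ := ⁅Φ.symm s, a⁆) (by rw [ho]; exact Nat.prime_three)
  rw [ho] at hj
  have := Finset.card_le_univ (⁅Φ.symm s, a⁆).support
  rw [← Perm.sum_cycleType, hj, Multiset.sum_replicate, smul_eq_mul, hD] at this
  rw [hj, show j = 0 by omega]
  rfl

theorem exists_double (hD : Fintype.card D = 4) (K : Subgroup (Perm D)) [hn : K.Normal] (hK : K ≠ ⊥) :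
    ∃ t ∈ ⁅(⊤ : Subgroup (Perm D)), K⁆, t.cycleType = ({2, 2} : Multiset ℕ) := by
  obtain ⟨a, ha, ha1⟩ := K.bot_or_exists_ne_one.resolve_left hK
  let Φ : Perm D ≃* Perm (Fin 4) := (Fintype.equivFinOfCardEq hD).permCongrHom
  obtain ⟨s, t, h2, h1, hs⟩ := fin4 (Φ a) (fun e => ha1 (Φ.injective (e.trans (map_one Φ).symm)))
  set b := ⁅Φ.symm s, ⁅Φ.symm t, a⁆⁆
  have e : Φ b = ⁅s, ⁅t, Φ a⁆⁆ := by
    rw [map_commutatorElement, map_commutatorElement, MulEquiv.apply_symm_apply, MulEquiv.apply_symm_apply]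
  have hin : ⁅Φ.symm t, a⁆ ∈ K := by
    rw [commutatorElement_def]
    exact K.mul_mem (hn.conj_mem a ha _) (K.inv_mem ha)
  refine ⟨b, Subgroup.commutator_mem_commutator (Subgroup.mem_top _) hin, ?_⟩
  have ho : orderOf b = 2 := by
    rw [← MulEquiv.orderOf_eq Φ, e]
    haveI : Fact (Nat.Prime 2) := ⟨Nat.prime_two⟩
    exact orderOf_eq_prime h2 h1
  have hsb : Perm.sign b = 1 := by
    have := congrArg Perm.sign e
    rw [hs] at this
    rwa [show Φ b = (Fintype.equivFinOfCardEq hD).permCongr b from rfl, Perm.sign_permCongr] at this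
  obtain ⟨j, hj⟩ := Perm.cycleType_prime_order (σ := b) (by rw [ho]; exact Nat.prime_two)
  rw [ho] at hj
  have := Finset.card_le_univ b.support
  rw [← Perm.sum_cycleType, hj, Multiset.sum_replicate, smul_eq_mul, hD] at this
  rw [Perm.sign_of_cycleType, hj, Multiset.sum_replicate, Multiset.card_replicate, smul_eq_mul] at hsb
  rcases (by omega : j = 0 ∨ j = 1) with rfl | rfl
  · exact absurd hsb (by decide)
  · rw [hj]; rfl

theorem exists_cycle (hD : 5 ≤ Fintype.card D) (K : Subgroup (Perm D)) [hn : K.Normal] (hK : K ≠ ⊥) {q : ℕ}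
    (hq : q = 3 ∨ q = 5) : ∃ t ∈ ⁅K, K⁆, t.cycleType = ({q} : Multiset ℕ) := by
  have hA : alternatingGroup D ≤ K :=
    Perm.alternatingGroup_le_of_normal (by rwa [Nat.card_eq_fintype_card]) (K.nontrivial_iff_ne_bot.mpr hK)
  haveI : (⁅K, K⁆).Normal := Subgroup.commutator_normal K K
  have hne : ⁅K, K⁆ ≠ ⊥ := by
    intro h
    have hA4 : 4 ≤ Nat.card D := by rw [Nat.card_eq_fintype_card]; omega
    have hAc : ⁅alternatingGroup D, alternatingGroup D⁆ = ⊥ := le_bot_iff.mp (h ▸ Subgroup.commutator_mono hA hA)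
    rw [Subgroup.commutator_eq_bot_iff_le_centralizer] at hAc
    obtain ⟨σ, hσ⟩ := (Perm.exists_with_cycleType_iff D (m := {3})).mpr
      ⟨by simp; omega, fun a ha => by rw [Multiset.mem_singleton.mp ha]; omega⟩
    obtain ⟨x, hx⟩ := Finset.card_pos.mp (show 0 < σ.support.card by rw [← Perm.sum_cycleType, hσ]; simp)
    obtain ⟨z, hz⟩ : ∃ z, z ∉ σ.support := by
      by_contra hh
      push Not at hh
      have := Finset.card_le_card (fun t (_ : t ∈ (Finset.univ : Finset D)) => hh t)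
      rw [Finset.card_univ, ← Perm.sum_cycleType, hσ, Multiset.sum_singleton] at this
      omega
    obtain ⟨w, -, hw⟩ := Finset.exists_mem_notMem_of_card_lt_card (s := insert z σ.support) (t := Finset.univ)
      (by rw [Finset.card_insert_of_notMem hz, ← Perm.sum_cycleType, hσ, Multiset.sum_singleton, Finset.card_univ]; omega)
    simp only [Finset.mem_insert, not_or] at hw
    have hxz : x ≠ z := fun e => hz (e ▸ hx)
    have hxw : x ≠ w := fun e => hw.2 (e ▸ hx)
    have h3 : (swap x z * swap x w).IsThreeCycle := Perm.isThreeCycle_swap_mul_swap_same hxz hxw (Ne.symm hw.1)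
    have hc := Subgroup.mem_centralizer_iff.mp
      (hAc (show σ ∈ alternatingGroup D from (show σ.IsThreeCycle from hσ).mem_alternatingGroup))
      _ h3.mem_alternatingGroup
    have hc' := Equiv.congr_fun hc x
    have hsx : σ x ≠ x := Perm.mem_support.mp hx
    have hsxz : σ x ≠ z := fun e => hz (e ▸ Perm.apply_mem_support.mpr hx)
    have hsxw : σ x ≠ w := fun e => hw.2 (e ▸ Perm.apply_mem_support.mpr hx)
    simp only [Perm.mul_apply, swap_apply_left, swap_apply_of_ne_of_ne hsx hsxz, swap_apply_of_ne_of_ne hsx hsxw,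
      swap_apply_of_ne_of_ne (Ne.symm hxw) hw.1, Perm.notMem_support.mp hw.2] at hc'
    exact hsxw hc'
  have hA' : alternatingGroup D ≤ ⁅K, K⁆ :=
    Perm.alternatingGroup_le_of_normal (by rwa [Nat.card_eq_fintype_card]) ((Subgroup.nontrivial_iff_ne_bot _).mpr hne)
  obtain ⟨σ, hσ⟩ := (Perm.exists_with_cycleType_iff D (m := {q})).mpr
    ⟨by simp; omega, fun a ha => by rw [Multiset.mem_singleton.mp ha]; omega⟩
  refine ⟨σ, hA' ?_, hσ⟩
  rw [Perm.mem_alternatingGroup, Perm.sign_of_cycleType, hσ]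
  rcases hq with rfl | rfl <;> decide

end Cfsg.Agent.MultiTrans
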